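import Cfsg.Agent.FGS.LS6.CrB

/-!
# `SL₂(p)` in cross characteristic: an element of order three has a large fixed space
-/

set_option autoImplicit false
open Module Polynomial Matrix

namespace CL.LS6.Cr

universe v

variable {p : ℕ} [Fact p.Prime]

local notation "F" => ZMod p
local notation "𝔾" => GL (Fin 2) (ZMod p)
local notation "𝕊" => SpecialLinearGroup (Fin 2) (ZMod p)

/-- A transvection. -/
noncomputable def ug (a : F) : 𝔾 := mkG 1 a 0 1 (by simp)

/-- A diagonal matrix. -/
noncomputable def dg (t : Fˣ) : 𝔾 := mkG t 0 0 1 (by simp)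

theorem ug_pow (n : ℕ) : (ug 1 : 𝔾) ^ n = ug n := by
  induction n with
  | zero => apply Units.ext; ext i j; fin_cases i <;> fin_cases j <;> simp [ug, mkG_val]
  | succ n ih =>
    rw [pow_succ, ih]
    apply Units.ext
    ext i j; fin_cases i <;> fin_cases j <;> simp [ug, mkG_val, Matrix.mul_apply, Fin.sum_univ_two, add_comm]

theorem dg_ug (t : Fˣ) : dg t * ug 1 = ug 1 ^ (t : F).val * dg t := by
  rw [ug_pow]
  apply Units.ext
  ext i j; fin_cases i <;> fin_cases j <;> simp [ug, dg, mkG_val, Matrix.mul_apply, Fin.sum_univ_two]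

theorem ug_p : (ug 1 : 𝔾) ^ p = 1 := by
  rw [ug_pow]
  apply Units.ext
  ext i j; fin_cases i <;> fin_cases j <;> simp [ug, mkG_val]

theorem yy_eq : ∃ w : 𝔾, yy = (ug 1)⁻¹ * (w * ug 1 * w⁻¹) * (ug 1)⁻¹ * (w * ug 1 * w⁻¹) := by
  let w : 𝔾 := mkG 0 1 1 0 (by simp)
  have e : w * ug 1 * w⁻¹ = mkG 1 0 1 1 (by simp) := by
    rw [mul_inv_eq_iff_eq_mul]
    apply Units.ext
    ext i j; fin_cases i <;> fin_cases j <;> simp [w, ug, mkG_val, Matrix.mul_apply, Fin.sum_univ_two]
  have e1 : (ug 1 : 𝔾)⁻¹ = ug (-1) := by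
    rw [inv_eq_iff_mul_eq_one]
    apply Units.ext
    ext i j; fin_cases i <;> fin_cases j <;> simp [ug, mkG_val, Matrix.mul_apply, Fin.sum_univ_two]
  have e2 : (yy : 𝔾) = (ug 1)⁻¹ * mkG 1 0 1 1 (by simp) * (ug 1)⁻¹ * mkG 1 0 1 1 (by simp) := by
    rw [e1]
    apply Units.ext
    ext i j; fin_cases i <;> fin_cases j <;> simp [ug, mkG_val, yy_val, Matrix.mul_apply, Fin.sum_univ_two]
  exact ⟨w, by rw [e, e2]⟩

section
variable {K : Type*} [Field K] {W : Type*} [AddCommGroup W] [Module K W] [FiniteDimensional K W]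

theorem big [IsAlgClosed K] (hK : (p : K) ≠ 0) (ρ : Representation K 𝔾 W) :
    ρ yy = 1 ∨ p - 1 ≤ finrank K W := by
  have hp : p.Prime := Fact.out
  by_cases h1 : ρ (ug 1) = 1
  · left
    obtain ⟨w, hw⟩ := yy_eq (p := p)
    have a : ug 1 ∈ ρ.asGroupHom.ker := Units.ext h1
    have b := (MonoidHom.normal_ker ρ.asGroupHom).conj_mem _ a w
    have : yy ∈ ρ.asGroupHom.ker := hw ▸ mul_mem (mul_mem (mul_mem (inv_mem a) b) (inv_mem a)) b
    exact congrArg Units.val (MonoidHom.mem_ker.1 this)
  right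
  set A := ρ (ug 1) with hA
  have Ap : A ^ p = 1 := by rw [hA, ← map_pow, ug_p, map_one]
  let U := LinearMap.ker (∑ i ∈ Finset.range p, A ^ i)
  have U0 : U ≠ ⊥ := fun z => h1 <| by
    ext w
    have : A w - w ∈ U := by
      change ((∑ i ∈ Finset.range p, A ^ i) * (A - 1)) w = 0
      rw [geom_sum_mul, Ap, sub_self, LinearMap.zero_apply]
    rw [z, Submodule.mem_bot, sub_eq_zero] at this
    exact this
  have := Submodule.nontrivial_iff_ne_bot.2 U0
  have hU : ∀ x ∈ U, A x ∈ U := fun x hx => by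
    change ((∑ i ∈ Finset.range p, A ^ i) * A) x = 0
    rw [(Commute.sum_left _ _ _ fun i _ => (Commute.refl A).pow_left i).eq, End.mul_apply, LinearMap.mem_ker.1 hx,
      map_zero]
  obtain ⟨c, hc⟩ := End.exists_eigenvalue (A.restrict hU)
  obtain ⟨⟨v, vU⟩, hv⟩ := hc.exists_hasEigenvector
  have v0 : v ≠ 0 := fun z => hv.2 (Subtype.ext z)
  have Av : A v = c • v := congrArg Subtype.val hv.apply_eq_smul
  have An : ∀ n : ℕ, (A ^ n) v = c ^ n • v := fun n =>
    End.HasEigenvector.pow_apply ⟨End.mem_eigenspace_iff.2 Av, v0⟩ n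
  have cp : c ^ p = 1 := by
    have := An p
    rw [Ap, End.one_apply] at this
    exact smul_left_injective K v0 (by simpa using this.symm)
  have c1 : c ≠ 1 := by
    rintro rfl
    have := LinearMap.mem_ker.1 vU
    simp only [LinearMap.sum_apply, An, one_pow, one_smul, Finset.sum_const, Finset.card_range] at this
    rw [← Nat.cast_smul_eq_nsmul K, smul_eq_zero] at this
    exact this.elim hK v0
  have oc : orderOf c = p := orderOf_eq_prime cp c1
  have li := End.eigenvectors_linearIndependent' A (fun t : Fˣ => c ^ (t : F).val) (fun t t' e => by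
    have := pow_injOn_Iio_orderOf (x := c) (by rw [oc]; exact ZMod.val_lt _) (by rw [oc]; exact ZMod.val_lt _) e
    exact Units.ext (ZMod.val_injective p this)) (fun t => ρ (dg t)⁻¹ v) fun t => by
      refine ⟨End.mem_eigenspace_iff.2 ?_, fun z => v0 ?_⟩
      · have : ug 1 * (dg t)⁻¹ = (dg t)⁻¹ * ug 1 ^ (t : F).val := by
          rw [eq_inv_mul_iff_mul_eq, ← mul_assoc, dg_ug, mul_inv_cancel_right]
        rw [hA, ← End.mul_apply, ← map_mul, this, map_mul, map_pow, End.mul_apply, An, map_smul]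
      · have := congrArg (ρ (dg t)) z
        rwa [← End.mul_apply, ← map_mul, mul_inv_cancel, map_one, map_zero] at this
  have := li.fintype_card_le_finrank
  rwa [ZMod.card_units] at this

theorem irr_le [IsAlgClosed K] [Nontrivial W] (h11 : 11 ≤ p) (h3 : p % 3 = 2) (hK : (p : K) ≠ 0) (h : (3 : K) ≠ 0)
    (ρ : Representation K 𝔾 W) (irr : Irr ρ) : finrank K W ≤ 6 * finrank K (LinearMap.range (nm (ρ yy))) := by
  rcases big hK ρ with b | b
  · have : LinearMap.range (nm (ρ yy)) = ⊤ := by
      rw [eq_top_iff]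
      intro w _
      refine ⟨(3 : K)⁻¹ • w, ?_⟩
      simp only [nm, b, LinearMap.add_apply, End.one_apply, mul_one]
      rw [← add_smul, ← add_smul, show (3 : K)⁻¹ + 3⁻¹ + 3⁻¹ = 1 by field_simp; norm_num, one_smul]
    rw [this, finrank_top]
    omega
  obtain ⟨s, z, k, e, hs, hz, k0, k3, he, ee⟩ := singer h3
  obtain ⟨c, hc⟩ := schur irr (ρ z) fun g => by rw [← map_mul, ← map_mul, Subgroup.mem_center_iff.1 hz g]
  have ge := gelfand irr tau (fun g h => Units.ext (tm_mul _ _)) (fun g => Units.ext (tm_tm _)) s hs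
  let q : K[X] := 1 + C c * X ^ k + C (c * c) * X ^ (2 * k)
  have q0 : q ≠ 0 := fun z => by
    have := congrArg (eval 0) z
    simp [q, k0.ne'] at this
  have qd : q.natDegree ≤ 2 * k := by
    simp only [q]
    compute_degree
    omega
  have y3 : ρ yy * ρ yy * ρ yy = 1 := by rw [← map_mul, ← map_mul, ← pow_three', yy_cube, map_one]
  have e1 : nm (ρ (yy ^ e)) = nm (ρ yy) := by
    rcases he with rfl | rfl
    · rw [pow_one]
    · rw [sq, map_mul, nm, nm, ← mul_assoc, y3, one_mul, add_right_comm]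
  have e2 : aeval (ρ s) q = nm (ρ yy) := by
    rw [← e1, ee, map_mul, hc, map_pow]
    simp [q, nm, Algebra.algebraMap_eq_smul_one, two_mul, pow_add, smul_smul]
  have := ker_poly (ρ s) ge _ q q0 rfl
  rw [e2] at this
  have := (nm (ρ yy)).finrank_range_add_finrank_ker
  omega

omit [FiniteDimensional K W] in
theorem nm_le (A : End K W) (h : A * A * A = 1) : LinearMap.range (nm A) ≤ LinearMap.ker (A - 1) := by
  rintro _ ⟨x, rfl⟩
  change ((A - 1) * nm A) x = 0
  have : (A - 1) * nm A = A * A * A - 1 := by simp only [nm]; noncomm_ring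
  rw [this, h, sub_self, LinearMap.zero_apply]

end

theorem det_dg (t : Fˣ) : GeneralLinearGroup.det (dg t) = t := by
  apply Units.ext
  simp [dg, mkG_val, det_fin_two]

/-- The cocycle. -/
noncomputable def kap (d : Fˣ) (g : 𝔾) : 𝕊 :=
  ⟨(dg d * g * (dg (d * GeneralLinearGroup.det g))⁻¹).1, by
    rw [← GeneralLinearGroup.val_det_apply, map_mul, map_mul, map_inv, det_dg, det_dg, mul_inv_cancel, Units.val_one]⟩

theorem kap_mul (d : Fˣ) (g h : 𝔾) : kap d (g * h) = kap d g * kap (d * GeneralLinearGroup.det g) h := by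
  apply Subtype.ext
  change (kap d (g * h)).1 = (kap d g).1 * (kap (d * GeneralLinearGroup.det g) h).1
  simp only [kap, ← Units.val_mul, map_mul, mul_assoc, inv_mul_cancel_left]

theorem kap_one (d : Fˣ) : kap d 1 = 1 := by
  apply Subtype.ext
  simp [kap]

theorem det_yy : GeneralLinearGroup.det (yy : 𝔾) = 1 := by
  apply Units.ext
  simp [yy_val, det_fin_two]

theorem kap_ne (d : Fˣ) : kap d yy ≠ 1 := fun z => by
  have : dg d * yy * (dg (d * GeneralLinearGroup.det yy))⁻¹ = 1 := Units.ext (congrArg Subtype.val z)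
  rw [det_yy, mul_one, mul_inv_eq_one, mul_eq_left] at this
  have := congrArg (fun g : 𝔾 => g.1 1 0) this
  simp [yy_val] at this

theorem kap_cube (d : Fˣ) : kap d yy * kap d yy * kap d yy = 1 := by
  have : ∀ g, kap d (yy * g) = kap d yy * kap d g := fun g => by rw [kap_mul, det_yy, mul_one]
  rw [mul_assoc, ← this, ← this, ← pow_three, yy_cube, kap_one]

/-- The induced representation. -/
noncomputable def co {K V : Type*} [Field K] [AddCommGroup V] [Module K V] (ρ : Representation K 𝕊 V) :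
    Representation K 𝔾 (Fˣ → V) where
  toFun g := LinearMap.pi fun d => ρ (kap d g) ∘ₗ LinearMap.proj (d * GeneralLinearGroup.det g)
  map_one' := by ext f d; simp [kap_one]
  map_mul' g h := by ext f d; simp [kap_mul, mul_assoc]

theorem closed (h11 : 11 ≤ p) (h3 : p % 3 = 2) {K V : Type*} [Field K] [IsAlgClosed K] [AddCommGroup V] [Module K V]
    [FiniteDimensional K V] (hK : (p : K) ≠ 0) (h : (3 : K) ≠ 0) (ρ : Representation K 𝕊 V) :
    ∃ d, finrank K V ≤ 6 * finrank K (LinearMap.range (nm (ρ (kap d yy)))) := by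
  have a := series (K := K) yy (fun W _ _ _ _ σ irr => irr_le h11 h3 hK h σ irr) _ _ (co ρ) rfl
  let f : LinearMap.range (nm (co ρ yy)) →ₗ[K] ∀ d : Fˣ, LinearMap.range (nm (ρ (kap d yy))) :=
    LinearMap.pi fun d => (LinearMap.proj d ∘ₗ Submodule.subtype _).codRestrict _ <| by
      rintro ⟨_, x, rfl⟩
      refine ⟨x d, ?_⟩
      change _ = nm (co ρ yy) x d
      simp [nm, co, det_yy]
  have b := LinearMap.finrank_le_finrank_of_injective (f := f) fun x y e =>
    Subtype.ext (funext fun d => congrArg (fun z => (z d).1) e)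
  rw [finrank_pi_fintype] at a b
  by_contra n
  push Not at n
  have := Finset.sum_lt_sum_of_nonempty (s := Finset.univ) Finset.univ_nonempty fun d _ => n d
  rw [← Finset.mul_sum] at this
  omega

end CL.LS6.Cr

namespace CL.LS6

open Cr TensorProduct

theorem cross {p : ℕ} [Fact p.Prime] (h11 : 11 ≤ p) (h3 : p % 3 = 2) {K V : Type*} [Field K] [AddCommGroup V]
    [Module K V] [FiniteDimensional K V] (hK : (p : K) ≠ 0)
    (ρ : Representation K (Matrix.SpecialLinearGroup (Fin 2) (ZMod p)) V) :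
    ∃ h, h ≠ 1 ∧ Module.finrank K V ≤ 6 * Module.finrank K (LinearMap.ker (ρ h - 1)) := by
  have cube : ∀ d, ρ (kap d yy) * ρ (kap d yy) * ρ (kap d yy) = 1 := fun d => by
    rw [← map_mul, ← map_mul, kap_cube, map_one]
  by_cases h : (3 : K) = 0
  · refine ⟨kap 1 yy, kap_ne 1, ?_⟩
    have c := cube 1
    generalize ρ (kap 1 yy) = A at c
    have z : (A - 1) * ((A - 1) * (A - 1)) = 0 := by
      have : (A - 1) * ((A - 1) * (A - 1)) = A * A * A - 1 + (3 : K) • (A - A * A) := by
        rw [show (3 : K) = 1 + 1 + 1 by norm_num, add_smul, add_smul, one_smul]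
        noncomm_ring
      rw [this, c, h, zero_smul, sub_self, add_zero]
    have a := ker_mul (A - 1) ((A - 1) * (A - 1))
    have b := ker_mul (A - 1) (A - 1)
    rw [z, LinearMap.ker_zero, finrank_top] at a
    omega
  let L := AlgebraicClosure K
  let σ : Representation L (Matrix.SpecialLinearGroup (Fin 2) (ZMod p)) (L ⊗[K] V) :=
    (Module.End.baseChangeHom K L V).toMonoidHom.comp ρ
  obtain ⟨d, hd⟩ := closed h11 h3 (K := L) (by rw [← map_natCast (algebraMap K L)]; exact (_root_.map_ne_zero _).2 hK)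
    (by rw [← map_ofNat (algebraMap K L)]; simpa using h) σ
  refine ⟨kap d yy, kap_ne d, ?_⟩
  have a := Submodule.finrank_mono (nm_le _ (cube d))
  have e : nm (σ (kap d yy)) = (LinearMap.range (nm (ρ (kap d yy)))).subtype.baseChange L ∘ₗ
      (nm (ρ (kap d yy))).rangeRestrict.baseChange L := by
    rw [← LinearMap.baseChange_comp, LinearMap.subtype_comp_codRestrict]
    simp only [nm, LinearMap.baseChange_add, LinearMap.baseChange_one, LinearMap.baseChange_mul]
    rfl
  have b : LinearMap.range (nm (σ (kap d yy))) ≤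
      LinearMap.range ((LinearMap.range (nm (ρ (kap d yy)))).subtype.baseChange L) := e ▸ LinearMap.range_comp_le_range _ _
  have c := (Submodule.finrank_mono b).trans (LinearMap.finrank_range_le _)
  rw [Module.finrank_baseChange] at c hd
  omega

end CL.LS6
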