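import Mathlib

/-!
# Linear algebra for the cross characteristic case: kernels, ranks, the Gelfand trick
-/

set_option autoImplicit false
open Module Polynomial

namespace CL.LS6.Cr

universe v

section
variable {K : Type*} [Field K] {W : Type*} [AddCommGroup W] [Module K W] [FiniteDimensional K W]

theorem ker_mul (A B : End K W) :
    finrank K (LinearMap.ker (A * B)) ≤ finrank K (LinearMap.ker A) + finrank K (LinearMap.ker B) := by
  let f : LinearMap.ker (A * B) →ₗ[K] LinearMap.ker A :=
    (B.domRestrict _).codRestrict _ fun x => x.2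
  have h1 := f.finrank_range_add_finrank_ker
  have h2 : finrank K (LinearMap.range f) ≤ finrank K (LinearMap.ker A) := Submodule.finrank_le _
  let g : LinearMap.ker f →ₗ[K] LinearMap.ker B :=
    (((LinearMap.ker (A * B)).subtype).comp (LinearMap.ker f).subtype).codRestrict _
      fun x => congrArg Subtype.val x.2
  have h3 : finrank K (LinearMap.ker f) ≤ finrank K (LinearMap.ker B) :=
    LinearMap.finrank_le_finrank_of_injective (f := g) fun x y e =>
      Subtype.ext (Subtype.ext (congrArg (fun z => z.1) e))
  omega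

theorem ker_poly [IsAlgClosed K] (S : End K W) (h : ∀ c : K, finrank K (LinearMap.ker (S - c • 1)) ≤ 1) (n : ℕ) :
    ∀ q : K[X], q ≠ 0 → q.natDegree = n → finrank K (LinearMap.ker (aeval S q)) ≤ n := by
  induction n with
  | zero =>
    intro q q0 e
    rw [eq_C_of_natDegree_eq_zero e] at q0 ⊢
    have : LinearMap.ker (aeval S (C (q.coeff 0))) = ⊥ := by
      rw [LinearMap.ker_eq_bot']
      intro m hm
      simp only [aeval_C, Module.algebraMap_end_apply, smul_eq_zero] at hm
      rcases hm with hm | hm
      · simp [hm] at q0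
      · exact hm
    rw [this, finrank_bot]
  | succ n ih =>
    intro q q0 e
    obtain ⟨c, hc⟩ := IsAlgClosed.exists_root q (by rw [degree_eq_natDegree q0, e]; exact_mod_cast n.succ_ne_zero)
    obtain ⟨r, rfl⟩ := dvd_iff_isRoot.2 hc
    have r0 : r ≠ 0 := right_ne_zero_of_mul q0
    rw [natDegree_mul (X_sub_C_ne_zero c) r0, natDegree_X_sub_C] at e
    have := ih r r0 (by omega)
    have h2 := ker_mul (aeval S (X - C c)) (aeval S r)
    have h3 : aeval S (X - C c) = S - c • 1 := by simp [Algebra.algebraMap_eq_smul_one]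
    rw [map_mul]
    have := h c
    rw [h3] at h2 ⊢
    omega

theorem rank_sub (A : End K W) (U : Submodule K W) (B : End K U) (D : End K (W ⧸ U))
    (hB : ∀ x : U, (B x : W) = A x) (hD : ∀ x, D (U.mkQ x) = U.mkQ (A x)) :
    finrank K (LinearMap.range B) + finrank K (LinearMap.range D) ≤ finrank K (LinearMap.range A) := by
  let f : LinearMap.range A →ₗ[K] W ⧸ U := U.mkQ.comp (LinearMap.range A).subtype
  have h1 := f.finrank_range_add_finrank_ker
  have h2 : LinearMap.range D ≤ LinearMap.range f := by
    rintro _ ⟨x, rfl⟩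
    obtain ⟨x, rfl⟩ := U.mkQ_surjective x
    exact ⟨⟨A x, x, rfl⟩, (hD x).symm⟩
  have h2 := Submodule.finrank_mono h2
  let g0 : LinearMap.range B →ₗ[K] LinearMap.range A :=
    (U.subtype.comp (LinearMap.range B).subtype).codRestrict _ <| by
      rintro ⟨_, x, rfl⟩
      exact ⟨x, (hB x).symm⟩
  let g : LinearMap.range B →ₗ[K] LinearMap.ker f := g0.codRestrict _ fun x =>
    (Submodule.Quotient.mk_eq_zero U).2 x.1.2
  have h3 : finrank K (LinearMap.range B) ≤ finrank K (LinearMap.ker f) :=
    LinearMap.finrank_le_finrank_of_injective (f := g) fun x y e =>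
      Subtype.ext (Subtype.ext (congrArg (fun z => z.1.1) e))
  omega

variable {G : Type*} [Group G]

/-- Irreducibility. -/
def Irr (ρ : Representation K G W) : Prop :=
  ∀ U : Submodule K W, (∀ g, U ≤ U.comap (ρ g)) → U = ⊥ ∨ U = ⊤

theorem schur [IsAlgClosed K] [Nontrivial W] {ρ : Representation K G W} (irr : Irr ρ) (φ : End K W)
    (h : ∀ g, φ * ρ g = ρ g * φ) : ∃ c : K, φ = c • 1 := by
  obtain ⟨c, hc⟩ := End.exists_eigenvalue φ
  refine ⟨c, ?_⟩
  rcases irr (φ.eigenspace c) (fun g w hw => by
    rw [Submodule.mem_comap, End.mem_eigenspace_iff] at *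
    rw [← End.mul_apply, h, End.mul_apply, hw, map_smul]) with e | e
  · exact absurd e hc
  · ext w
    have : w ∈ φ.eigenspace c := e ▸ Submodule.mem_top
    simpa using End.mem_eigenspace_iff.1 this

theorem gelfand [IsAlgClosed K] {ρ : Representation K G W} (irr : Irr ρ) (τ : G → G)
    (hm : ∀ g h, τ (g * h) = τ h * τ g) (hi : ∀ g, τ (τ g) = g) (s : G)
    (hs : ∀ g, ∃ k : ℕ, τ g * s ^ k = s ^ k * g) (c : K) :
    finrank K (LinearMap.ker (ρ s - c • 1)) ≤ 1 := by
  by_cases h0 : LinearMap.ker (ρ s - c • 1) = ⊥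
  · rw [h0, finrank_bot]
    exact zero_le_one
  obtain ⟨v, hv, v0⟩ := Submodule.exists_mem_ne_zero_of_ne_bot h0
  have mem : ∀ w, w ∈ LinearMap.ker (ρ s - c • 1) ↔ ρ s w = c • w := fun w => by
    rw [LinearMap.mem_ker, LinearMap.sub_apply, LinearMap.smul_apply, End.one_apply, sub_eq_zero]
  have : Nontrivial W := nontrivial_of_ne v 0 v0
  have c0 : c ≠ 0 := by
    rintro rfl
    have := congrArg (ρ s⁻¹) ((mem v).1 hv)
    rw [← End.mul_apply, ← map_mul] at this
    exact v0 (by simpa using this)
  have lt : LinearMap.range (ρ s - c • 1) < ⊤ := by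
    rw [lt_top_iff_ne_top, Ne, ← LinearMap.ker_eq_bot_iff_range_eq_top]
    exact h0
  obtain ⟨l, l0, hl⟩ := Submodule.exists_le_ker_of_lt_top _ lt
  have ls : ∀ w, l (ρ s w) = c * l w := fun w => by
    have := hl ⟨w, rfl⟩
    simpa [sub_eq_zero] using this
  have lp : ∀ (k : ℕ) w, l (ρ (s ^ k) w) = c ^ k * l w := fun k => by
    induction k with
    | zero => simp
    | succ k ih => intro w; rw [pow_succ', map_mul, End.mul_apply, ls, ih, pow_succ', mul_assoc]
  have vp : ∀ w, ρ s w = c • w → ∀ k : ℕ, ρ (s ^ k) w = c ^ k • w := fun w hw k => by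
    induction k with
    | zero => simp
    | succ k ih => rw [pow_succ, map_mul, End.mul_apply, hw, map_smul, ih, smul_smul, pow_succ']
  have ft : ∀ w, ρ s w = c • w → ∀ g, l (ρ (τ g) w) = l (ρ g w) := fun w hw g => by
    obtain ⟨k, hk⟩ := hs g
    have := congrArg (fun x => l (ρ x w)) hk
    simp only [map_mul, End.mul_apply] at this
    rw [vp w hw, lp, map_smul, map_smul, smul_eq_mul] at this
    exact mul_left_cancel₀ (pow_ne_zero k c0) this
  let T : W → (G →₀ K) →ₗ[K] W := fun w => Finsupp.linearCombination K fun g => ρ g w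
  let L : (G →₀ K) →ₗ[K] W →ₗ[K] K := Finsupp.linearCombination K fun h => l ∘ₗ ρ (τ h)
  have key : ∀ w, ρ s w = c • w → ∀ a g, l (ρ (τ g) (T w a)) = L a (ρ g w) := fun w hw a g => by
    induction a using Finsupp.induction_linear with
    | zero => simp
    | add a b ha hb => simp only [map_add, LinearMap.add_apply, ha, hb]
    | single h x =>
      simp only [T, L, Finsupp.linearCombination_single, map_smul, LinearMap.smul_apply, LinearMap.comp_apply]
      rw [← End.mul_apply, ← map_mul, ← ft w hw, hm, hi, map_mul, End.mul_apply]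
  have eqv : ∀ w g, ρ g ∘ₗ T w = T w ∘ₗ Finsupp.lmapDomain K K (g * ·) := fun w g => by
    refine Finsupp.lhom_ext fun h x => ?_
    simp [T]
  have sur : LinearMap.range (T v) = ⊤ := by
    refine (irr _ fun g => ?_).resolve_left fun e => v0 ?_
    · rintro _ ⟨a, rfl⟩
      exact ⟨_, (LinearMap.congr_fun (eqv v g) a).symm⟩
    · have : v ∈ LinearMap.range (T v) := ⟨Finsupp.single 1 1, by simp [T]⟩
      rwa [e] at this
  have kle : ∀ w, ρ s w = c • w → ∀ a, T v a = 0 → T w a = 0 := fun w hw a ha => by
    have L0 : L a = 0 := by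
      have : L a ∘ₗ T v = 0 := by
        refine Finsupp.lhom_ext fun g x => ?_
        have := key v ((mem v).1 hv) a g
        rw [ha] at this
        simp [T, ← this]
      ext x
      obtain ⟨b, rfl⟩ := LinearMap.range_eq_top.1 sur x
      exact LinearMap.congr_fun this b
    let U : Submodule K W := ⨅ g, LinearMap.ker (l ∘ₗ ρ g)
    have hU : U = ⊥ := by
      refine (irr U fun g x hx => ?_).resolve_right fun e => l0 ?_
      · simp only [U, Submodule.mem_comap, Submodule.mem_iInf, LinearMap.mem_ker, LinearMap.comp_apply] at hx ⊢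
        intro h
        rw [← End.mul_apply, ← map_mul, hx]
      · ext x
        have : x ∈ U := e ▸ Submodule.mem_top
        simpa using (Submodule.mem_iInf _).1 this 1
    have : T w a ∈ U := by
      simp only [U, Submodule.mem_iInf, LinearMap.mem_ker, LinearMap.comp_apply]
      intro g
      rw [← hi g, key w hw, L0, LinearMap.zero_apply]
    rwa [hU] at this
  obtain ⟨R, hR⟩ := (T v).exists_rightInverse_of_surjective sur
  have le : LinearMap.ker (ρ s - c • 1) ≤ Submodule.span K {v} := fun w hw => by
    have hw := (mem w).1 hw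
    have fT : ∀ a, (T w ∘ₗ R) (T v a) = T w a := fun a => by
      have := kle w hw (R (T v a) - a) (by
        rw [map_sub, sub_eq_zero]; exact LinearMap.congr_fun hR _)
      rwa [map_sub, sub_eq_zero] at this
    obtain ⟨d, hd⟩ := schur irr (T w ∘ₗ R) fun g => by
      ext x
      obtain ⟨b, rfl⟩ := LinearMap.range_eq_top.1 sur x
      have e1 := LinearMap.congr_fun (eqv v g) b
      have e2 := LinearMap.congr_fun (eqv w g) b
      simp only [LinearMap.comp_apply] at e1 e2
      rw [End.mul_apply, End.mul_apply, fT, e1, fT, e2]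
    have := fT (Finsupp.single 1 1)
    rw [hd] at this
    exact Submodule.mem_span_singleton.2 ⟨d, by simpa [T] using this⟩
  exact (Submodule.finrank_mono le).trans (finrank_span_singleton v0).le

end

/-- The norm of an element of order three. -/
def nm {K : Type*} [Field K] {W : Type*} [AddCommGroup W] [Module K W] (A : End K W) : End K W := 1 + A + A * A

/-- Induction along a composition series. -/
theorem series {K : Type*} [Field K] {G : Type*} [Group G] (y : G)
    (h : ∀ (W : Type v) [AddCommGroup W] [Module K W] [FiniteDimensional K W] [Nontrivial W] (ρ : Representation K G W),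
      Irr ρ → finrank K W ≤ 6 * finrank K (LinearMap.range (nm (ρ y)))) (n : ℕ) :
    ∀ (W : Type v) [AddCommGroup W] [Module K W] [FiniteDimensional K W] (ρ : Representation K G W),
      finrank K W = n → finrank K W ≤ 6 * finrank K (LinearMap.range (nm (ρ y))) := by
  induction n using Nat.strong_induction_on with
  | _ n ih =>
  intro W _ _ _ ρ e
  rcases subsingleton_or_nontrivial W with s | s
  · simp [finrank_zero_of_subsingleton]
  by_cases irr : Irr ρ
  · exact h W ρ irr
  simp only [Irr, not_forall, not_or] at irr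
  obtain ⟨U, hU, h0, h1⟩ := irr
  have a := U.finrank_quotient_add_finrank
  have b := Submodule.finrank_lt h1
  have c : finrank K U ≠ 0 := fun z => h0 (Submodule.finrank_eq_zero.1 z)
  have i1 := ih _ (by omega) U (ρ.subrepresentation U hU) rfl
  have i2 := ih _ (by omega) (W ⧸ U) (ρ.quotient U hU) rfl
  have := rank_sub (nm (ρ y)) U (nm (ρ.subrepresentation U hU y)) (nm (ρ.quotient U hU y))
    (fun x => by simp [nm]) (fun x => by simp [nm])
  omega

end CL.LS6.Cr
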