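import Cfsg.Agent.FGS.LS6.CrA

/-!
# The Singer cycle of `GL₂(p)` and the irreducible modules in cross characteristic
-/

set_option autoImplicit false
open Module Polynomial Matrix

namespace CL.LS6.Cr

variable {p : ℕ} [Fact p.Prime]

local notation "F" => ZMod p
local notation "𝔾" => GL (Fin 2) (ZMod p)

/-- The anti-automorphism on matrices. -/
def tm (m : Matrix (Fin 2) (Fin 2) F) : Matrix (Fin 2) (Fin 2) F := !![m 0 0, -m 1 0; -m 0 1, m 1 1]

theorem tm_mul (a b : Matrix (Fin 2) (Fin 2) F) : tm (a * b) = tm b * tm a := by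
  ext i j; fin_cases i <;> fin_cases j <;> simp [tm, Matrix.mul_apply, Fin.sum_univ_two] <;> ring

theorem tm_one : tm (1 : Matrix (Fin 2) (Fin 2) F) = 1 := by
  ext i j; fin_cases i <;> fin_cases j <;> simp [tm]

theorem tm_tm (a : Matrix (Fin 2) (Fin 2) F) : tm (tm a) = a := by
  ext i j; fin_cases i <;> fin_cases j <;> simp [tm]

/-- The anti-automorphism. -/
def tau (g : 𝔾) : 𝔾 :=
  ⟨tm g.1, tm g.2, by rw [← tm_mul, g.4, tm_one], by rw [← tm_mul, g.3, tm_one]⟩

/-- An invertible matrix. -/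
noncomputable def mkG (a b c d : F) (h : a * d - b * c ≠ 0) : 𝔾 :=
  GeneralLinearGroup.mkOfDetNeZero !![a, b; c, d] (by rwa [det_fin_two_of])

theorem mkG_val (a b c d : F) (h : a * d - b * c ≠ 0) : (mkG a b c d h).1 = !![a, b; c, d] := rfl

/-- The element of order three. -/
noncomputable def yy : 𝔾 := mkG (-1) (-1) 1 0 (by simp)

theorem yy_val : (yy : 𝔾).1 = !![-1, -1; 1, 0] := rfl

theorem yy_cube : (yy : 𝔾) ^ 3 = 1 := by
  apply Units.ext
  ext i j; fin_cases i <;> fin_cases j <;>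
    simp [pow_succ, yy_val, Matrix.mul_apply, Fin.sum_univ_two]

theorem aniso (h3 : p % 3 = 2) {a b : F} (h : a ^ 2 - a * b + b ^ 2 = 0) : a = 0 ∧ b = 0 := by
  have hp : p.Prime := Fact.out
  by_cases b0 : b = 0
  · subst b0
    exact ⟨by simpa using h, rfl⟩
  exfalso
  have e : (-a / b) ^ 2 + (-a / b) + 1 = 0 := by field_simp; linear_combination h
  generalize -a / b = x at e
  have x3 : x ^ 3 = 1 := by linear_combination (x - 1) * e
  have x0 : x ≠ 0 := by rintro rfl; simp at e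
  have x1 := ZMod.pow_card_sub_one_eq_one x0
  obtain ⟨k, hk⟩ : ∃ k, p - 1 = 3 * k + 1 := ⟨(p - 1) / 3, by omega⟩
  rw [hk, pow_succ, pow_mul, x3, one_pow, one_mul] at x1
  subst x1
  have : ((3 : ℕ) : F) = 0 := by push_cast; linear_combination e
  rw [ZMod.natCast_eq_zero_iff, Nat.prime_dvd_prime_iff_eq hp Nat.prime_three] at this
  omega

/-- The non-split torus. -/
noncomputable abbrev SS : Subgroup 𝔾 := Subgroup.centralizer {yy}

theorem mem_SS {g : 𝔾} : g ∈ SS ↔ g.1 0 1 = -g.1 1 0 ∧ g.1 0 0 = g.1 1 1 - g.1 1 0 := by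
  rw [Subgroup.mem_centralizer_singleton_iff, Units.ext_iff, Units.val_mul, Units.val_mul, yy_val]
  constructor
  · intro h
    have h1 := congrFun (congrFun h 0) 0
    have h2 := congrFun (congrFun h 1) 0
    simp [Matrix.mul_apply, Fin.sum_univ_two] at h1 h2
    exact ⟨by linear_combination h1, by linear_combination -h2⟩
  · rintro ⟨h1, h2⟩
    ext i j; fin_cases i <;> fin_cases j <;> simp [Matrix.mul_apply, Fin.sum_univ_two, h1, h2] <;> ring

theorem SS_ext {g h : (SS : Subgroup 𝔾)} (a : g.1.1 1 1 = h.1.1 1 1) (b : g.1.1 1 0 = h.1.1 1 0) : g = h := by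
  obtain ⟨g1, g2⟩ := mem_SS.1 g.2
  obtain ⟨h1, h2⟩ := mem_SS.1 h.2
  apply Subtype.ext
  apply Units.ext
  ext i j; fin_cases i <;> fin_cases j <;> simp [g1, g2, h1, h2, a, b]

theorem SS_cyc (h3 : p % 3 = 2) : IsCyclic (SS : Subgroup 𝔾) := by
  let E := AlgebraicClosure F
  obtain ⟨w, hw⟩ : ∃ w : E, w ^ 2 + w + 1 = 0 := by
    obtain ⟨w, hw⟩ := IsAlgClosed.exists_root (X ^ 2 + X + 1 : E[X]) (by
      have : (X ^ 2 + X + 1 : E[X]).degree = 2 := by compute_degree!
      rw [this]; decide)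
    exact ⟨w, by simpa using hw⟩
  let i := algebraMap F E
  let f : (SS : Subgroup 𝔾) →* E :=
    { toFun := fun g => i (g.1.1 1 1) + i (g.1.1 1 0) * w
      map_one' := by simp
      map_mul' := fun g h => by
        obtain ⟨h1, h2⟩ := mem_SS.1 h.2
        simp only [Subgroup.coe_mul, Units.val_mul, Matrix.mul_apply, Fin.sum_univ_two, h1, h2, map_add, map_mul,
          map_neg, map_sub]
        linear_combination (-(i (g.1.1 1 0)) * i (h.1.1 1 0)) * hw }
  refine isCyclic_of_injective_ringHom f fun g h e => ?_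
  have e' : i (g.1.1 1 1) + i (g.1.1 1 0) * w = i (h.1.1 1 1) + i (h.1.1 1 0) * w := e
  have : i ((g.1.1 1 1 - h.1.1 1 1) ^ 2 - (g.1.1 1 1 - h.1.1 1 1) * (g.1.1 1 0 - h.1.1 1 0) +
      (g.1.1 1 0 - h.1.1 1 0) ^ 2) = 0 := by
    simp only [map_add, map_sub, map_mul, map_pow]
    linear_combination (i (g.1.1 1 0) - i (h.1.1 1 0)) ^ 2 * hw +
      ((i (g.1.1 1 1) - i (h.1.1 1 1)) - (i (g.1.1 1 0) - i (h.1.1 1 0)) * (w + 1)) * e'
  obtain ⟨a, b⟩ := aniso h3 ((map_eq_zero i).1 this)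
  exact SS_ext (sub_eq_zero.1 a) (sub_eq_zero.1 b)

theorem tau_conj (h3 : p % 3 = 2) (g : 𝔾) : ∃ s ∈ SS, tau g * s = s * g := by
  have key : ∀ a b : F, ¬ (a = 0 ∧ b = 0) → a * (g.1 0 1 + g.1 1 0) + b * (g.1 0 0 - g.1 0 1 - g.1 1 1) = 0 →
      ∃ s ∈ SS, tau g * s = s * g := fun a b n e => by
    refine ⟨mkG (a - b) (-b) b a fun z => n (aniso h3 (by linear_combination z)), mem_SS.2 (by simp [mkG_val]), ?_⟩
    apply Units.ext
    ext i j; fin_cases i <;> fin_cases j <;> simp [tau, tm, mkG_val, Matrix.mul_apply, Fin.sum_univ_two]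
    · ring
    · linear_combination -e
    · linear_combination -e
    · ring
  by_cases h : g.1 0 0 - g.1 0 1 - g.1 1 1 = 0 ∧ -(g.1 0 1 + g.1 1 0) = 0
  · exact key 1 0 (by simp) (by linear_combination -h.2)
  · exact key _ _ h (by ring)

theorem singer (h3 : p % 3 = 2) : ∃ (s z : 𝔾) (k e : ℕ), (∀ g, ∃ j : ℕ, tau g * s ^ j = s ^ j * g) ∧
    z ∈ Subgroup.center 𝔾 ∧ 0 < k ∧ 3 * k ≤ p + 1 ∧ (e = 1 ∨ e = 2) ∧ yy ^ e = z * s ^ k := by
  have hp : p.Prime := Fact.out
  have := SS_cyc h3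
  obtain ⟨s, hs⟩ := IsCyclic.exists_generator (α := (SS : Subgroup 𝔾))
  let Z : Subgroup (SS : Subgroup 𝔾) := (Subgroup.center 𝔾).subgroupOf SS
  let y : (SS : Subgroup 𝔾) := ⟨yy, Subgroup.mem_centralizer_singleton_iff.2 rfl⟩
  let π := QuotientGroup.mk' Z
  have gen : ∀ x : SS ⧸ Z, x ∈ Subgroup.zpowers (π s) := fun x => by
    obtain ⟨x, rfl⟩ := QuotientGroup.mk'_surjective Z x
    obtain ⟨j, rfl⟩ := hs x
    exact ⟨j, (map_zpow π s j).symm⟩
  have om := orderOf_eq_card_of_forall_mem_zpowers gen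
  have c1 : Nat.card (SS : Subgroup 𝔾) ≤ p * p - 1 := by
    have : Nat.card (SS : Subgroup 𝔾) ≤ Nat.card {x : F × F // x ≠ 0} := by
      refine Nat.card_le_card_of_injective (fun g => ⟨(g.1.1 1 1, g.1.1 1 0), fun z => ?_⟩) fun g h e => ?_
      · have := g.1.det_ne_zero
        rw [Prod.ext_iff] at z
        exact this (by rw [det_fin_two]; simp only at z; simp [z.1, z.2])
      · have e := congrArg Subtype.val e
        rw [Prod.ext_iff] at e
        exact SS_ext e.1 e.2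
    simpa [Nat.card_eq_fintype_card, Fintype.card_subtype_compl] using this
  have c2 : p - 1 ≤ Nat.card Z := by
    have : Nat.card Fˣ ≤ Nat.card Z := by
      refine Nat.card_le_card_of_injective (fun d => ⟨⟨mkG d 0 0 d (by simp), mem_SS.2 (by simp [mkG_val])⟩, ?_⟩)
        fun d d' e => ?_
      · rw [Subgroup.mem_subgroupOf, Subgroup.mem_center_iff]
        intro g
        apply Units.ext
        ext i j; fin_cases i <;> fin_cases j <;> simp [mkG_val, Matrix.mul_apply, Fin.sum_univ_two, mul_comm]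
      · exact Units.ext (congrArg (fun z : Z => z.1.1.1 0 0) e)
    rwa [Nat.card_eq_fintype_card, ZMod.card_units] at this
  have c3 := Subgroup.card_eq_card_quotient_mul_card_subgroup Z
  have le : orderOf (π s) ≤ p + 1 := by
    rw [om]
    have h2 := hp.two_le
    refine Nat.le_of_mul_le_mul_right (c := p - 1) ?_ (by omega)
    calc _ ≤ Nat.card (SS ⧸ Z) * Nat.card Z := Nat.mul_le_mul_left _ c2
      _ ≤ p * p - 1 := c3 ▸ c1
      _ = (p + 1) * (p - 1) := by
        obtain ⟨q, hq⟩ : ∃ q, p = q + 1 := ⟨p - 1, by omega⟩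
        rw [hq]; simp only [Nat.add_sub_cancel]; apply Nat.sub_eq_of_eq_add; ring
  have y3 : π y ^ 3 = 1 := by
    rw [← map_pow, show y ^ 3 = 1 from Subtype.ext yy_cube, map_one]
  have y1 : π y ≠ 1 := fun z => by
    have : y ∈ Z := (QuotientGroup.eq_one_iff _).1 z
    rw [Subgroup.mem_subgroupOf, Subgroup.mem_center_iff] at this
    have := congrArg (fun g : 𝔾 => g.1 0 0) (this (mkG 1 1 0 1 (by simp)))
    simp [y, mkG_val, yy_val, Matrix.mul_apply, Fin.sum_univ_two] at this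
  obtain ⟨j, hj⟩ := (mem_powers_iff_mem_zpowers (x := π s)).2 (gen (π y))
  simp only at hj
  have d1 : orderOf (π s) ∣ j * 3 := orderOf_dvd_of_pow_eq_one (by rw [pow_mul, hj, y3])
  have d2 : ¬ orderOf (π s) ∣ j := fun d => y1 (hj ▸ orderOf_dvd_iff_pow_eq_one.1 d)
  obtain ⟨k, hk⟩ : 3 ∣ orderOf (π s) := by
    by_contra n
    exact d2 (((Nat.prime_three.coprime_iff_not_dvd.2 n).symm).dvd_of_dvd_mul_right d1)
  have k0 : 0 < k := by have := orderOf_pos (π s); omega
  obtain ⟨i, rfl⟩ : k ∣ j := by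
    rw [hk, mul_comm j] at d1
    exact Nat.dvd_of_mul_dvd_mul_left (by decide) d1
  have t3 : (π s ^ k) ^ 3 = 1 := by rw [← pow_mul, mul_comm, ← hk, pow_orderOf_eq_one]
  rw [pow_mul, ← Nat.mod_add_div i 3, pow_add, pow_mul, t3, one_pow, mul_one] at hj
  obtain ⟨e, he, ee⟩ : ∃ e, (e = 1 ∨ e = 2) ∧ π y ^ e = π s ^ k := by
    have : i % 3 = 0 ∨ i % 3 = 1 ∨ i % 3 = 2 := by omega
    rcases this with r | r | r <;> rw [r] at hj
    · exact absurd hj.symm (by simpa using y1)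
    · exact ⟨1, .inl rfl, by rw [← hj, pow_one, pow_one]⟩
    · exact ⟨2, .inr rfl, by rw [← hj, ← pow_mul, show 2 * 2 = 3 + 1 from rfl, pow_succ, t3, one_mul]⟩
  have zm : y ^ e * (s ^ k)⁻¹ ∈ Z := by
    rw [← QuotientGroup.ker_mk' Z, MonoidHom.mem_ker, map_mul, map_inv, map_pow, map_pow]
    exact mul_inv_eq_one.2 ee
  refine ⟨s, _, k, e, fun g => ?_, Subgroup.mem_subgroupOf.1 zm, k0, by omega, he, by simp [y]⟩
  obtain ⟨t, ht, e⟩ := tau_conj h3 g
  obtain ⟨j, hj⟩ := (mem_powers_iff_mem_zpowers (x := s)).2 (hs ⟨t, ht⟩)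
  have : (s : 𝔾) ^ j = t := congrArg Subtype.val hj
  exact ⟨j, by rw [this, e]⟩

end CL.LS6.Cr
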