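import Cfsg.Agent.FGS.LS6.Defs

namespace CL.LS6.MA1
open Module

theorem naka {K V : Type*} [Field K] [AddCommGroup V] [Module K V] [FiniteDimensional K V]
    (Δ : Module.End K V) {n : ℕ} (hn : Δ ^ n = 0) (Q P : Submodule K V) (hQ : ∀ v ∈ Q, Δ v ∈ Q)
    (hP : ∀ v ∈ P, Δ v ∈ P) (h1 : finrank K ↥(Q ⊓ LinearMap.ker Δ) ≤ 1) (φ : V →ₗ[K] K)
    (hφ : ∀ v ∈ Q, φ (Δ v) = 0) {F : V} (hF : F ∈ Q) (hFP : F ∈ P) (h0 : φ F ≠ 0) : Q ≤ P := by
  have le : Q.map Δ ≤ Q ⊓ LinearMap.ker φ := by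
    rintro _ ⟨v, hv, rfl⟩
    exact ⟨hQ v hv, hφ v hv⟩
  have lt : Q ⊓ LinearMap.ker φ < Q := lt_of_le_of_ne inf_le_left fun e => h0 (e.ge hF).2
  have d1 := Submodule.finrank_lt_finrank_of_lt lt
  have d2 := LinearMap.finrank_range_add_finrank_ker (Δ.domRestrict Q)
  rw [LinearMap.range_domRestrict, LinearMap.ker_domRestrict,
    ← Submodule.finrank_map_subtype_eq, Submodule.map_comap_subtype] at d2
  have e : Q.map Δ = Q ⊓ LinearMap.ker φ := Submodule.eq_of_le_of_finrank_le le (by omega)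
  have step : ∀ v ∈ Q, ∃ w ∈ Q, v - Δ w ∈ P := fun v hv => by
    obtain ⟨w, hw, h⟩ := e.ge (show v - (φ v / φ F) • F ∈ Q ⊓ LinearMap.ker φ from
      ⟨Q.sub_mem hv (Q.smul_mem _ hF), by simp [h0]⟩)
    exact ⟨w, hw, by rw [h, sub_sub_cancel]; exact P.smul_mem _ hFP⟩
  have pw : ∀ k : ℕ, ∀ v ∈ P, (Δ ^ k) v ∈ P := fun k => by
    induction k with
    | zero => exact fun v hv => hv
    | succ k ih => exact fun v hv => by rw [pow_succ]; exact ih _ (hP v hv)
  have ind : ∀ k : ℕ, ∀ v ∈ Q, ∃ w ∈ Q, v - (Δ ^ k) w ∈ P := fun k => by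
    induction k with
    | zero => exact fun v hv => ⟨v, hv, by simp⟩
    | succ k ih =>
      intro v hv
      obtain ⟨w, hw, h⟩ := ih v hv
      obtain ⟨u, hu, h'⟩ := step w hw
      refine ⟨u, hu, ?_⟩
      have := P.add_mem h (pw k _ h')
      rwa [map_sub, sub_add_sub_cancel, ← Module.End.mul_apply, ← pow_succ] at this
  intro v hv
  obtain ⟨w, -, h⟩ := ind n v hv
  simpa [hn] using h

variable {p : ℕ} [Fact p.Prime] {K : Type*} [Field K] [Algebra (ZMod p) K]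

theorem mj_val {j : ℕ} {F : SL2 p → K} (hF : F ∈ MJ (p := p) K j) (g : SL2 p) :
    (g 1 0 = 0 → algebraMap (ZMod p) K (g 1 1) ^ j * F g = F 1) ∧
    (g 1 0 ≠ 0 → algebraMap (ZMod p) K (g 1 0) ^ j * F g = F (ww * uu (g 1 1 / g 1 0))) := by
  have det : g 0 0 * g 1 1 - g 0 1 * g 1 0 = 1 := by rw [← Matrix.det_fin_two]; exact g.2
  refine ⟨fun h => ?_, fun h => ?_⟩
  · have h1 : g 1 1 ≠ 0 := fun e => by simp [h, e] at det
    have e : dd (Units.mk0 _ h1) * g = uu (g 0 1 * g 1 1) * 1 := by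
      rw [h] at det
      apply Subtype.ext
      rw [mul_one, Matrix.SpecialLinearGroup.coe_mul, coe_dd, coe_uu]
      ext a b; fin_cases a <;> fin_cases b <;>
        simp [Matrix.mul_apply, Fin.sum_univ_two, h, h1] <;> first | ring1 | linear_combination det
    rw [← hF.1 (g 0 1 * g 1 1) 1, ← e, hF.2, Units.val_mk0]
  · have e : dd (Units.mk0 _ h) * g = uu (g 0 0 * g 1 0) * (ww * uu (g 1 1 / g 1 0)) := by
      apply Subtype.ext
      rw [Matrix.SpecialLinearGroup.coe_mul, Matrix.SpecialLinearGroup.coe_mul,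
        Matrix.SpecialLinearGroup.coe_mul, coe_dd, coe_uu, coe_uu, coe_ww]
      ext a b; fin_cases a <;> fin_cases b <;>
        simp [Matrix.mul_apply, Fin.sum_univ_two, h] <;> field_simp <;> linear_combination -det
    rw [← hF.1 (g 0 0 * g 1 0) (ww * _), ← e, hF.2, Units.val_mk0]

end CL.LS6.MA1
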